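import Groth.Agent.RedSub.H667.BcTorsor
import Groth.Agent.Sga3B.SplitBc264b
import Mathlib.AlgebraicGeometry.Morphisms.Etale
import Mathlib.AlgebraicGeometry.Morphisms.Finite

/-!
# Isotriviality of torsors under semisimple groups from isotriviality of the group (S3984) and
isotriviality of torsors under split groups (S3986)
-/

set_option autoImplicit false

universe u

open CategoryTheory Limits MonoidalCategory CartesianMonoidalCategory MonObj GrpObj AlgebraicGeometry

namespace Groth.Agent.RedSub.H667.Glue85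

/-- The statement S3984. -/
def Stmt84 : Prop :=
  ∀ {A : Type u} [CommRing A] (_ : {m : Ideal A | m.IsMaximal}.Finite)
    (G : Over (Spec (CommRingCat.of A))) [GrpObj G] (_ : Red.IsSemisimple G)
    {idx M N : Type} [Finite idx] [AddCommGroup M] [AddCommGroup N] [Module.Finite ℤ M]
    [Module.Free ℤ M]
    (R : RootPairing idx ℤ M N)
    (_ : ∀ s : Spec (CommRingCat.of A), Red.IsSplitOfType R (Red.geomFibre s G)),
    ∃ (S' : Scheme.{u}) (f : S' ⟶ Spec (CommRingCat.of A)), IsFinite f ∧ Etale f ∧ Surjective f ∧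
      Nonempty (Red.SplitRed (Red.bc f G))

/-- The statement S3986. -/
def Stmt86 : Prop :=
  ∀ {A : Type u} [CommRing A]
    (_ : {m : Ideal A | m.IsMaximal}.Finite) {G X : Over (Spec (CommRingCat.of A))} [GrpObj G]
    (_ : Red.SplitRed G) (a : AlgGrp.Action G X) (_ : _root_.RedSub.IsTorsor a),
    ∃ (S' : Scheme.{u}) (f : S' ⟶ Spec (CommRingCat.of A)), IsFinite f ∧ Etale f ∧ Surjective f ∧
      _root_.RedSub.HasSection (Red.bc f X)

/-- If `f : S' ⟶ Spec A` is finite, `A` semi-local, then `S' = Spec A'` with `A'` semi-local. -/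
theorem exists_semilocal {A : Type u} [CommRing A] (hA : {m : Ideal A | m.IsMaximal}.Finite)
    {S' : Scheme.{u}} (f : S' ⟶ Spec (CommRingCat.of A)) (hf : IsFinite f) :
    ∃ (A' : Type u) (_ : CommRing A') (_ : Spec (CommRingCat.of A') ≅ S'),
      {m : Ideal A' | m.IsMaximal}.Finite := by
  have : IsAffine S' := isAffine_of_isAffineHom f
  refine ⟨Γ(S', ⊤), inferInstance, S'.isoSpec.symm, ?_⟩
  let g : Spec (CommRingCat.of Γ(S', ⊤)) ⟶ Spec (CommRingCat.of A) := S'.isoSpec.inv ≫ f
  have hg : IsFinite g := inferInstance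
  obtain ⟨φ, hφ⟩ := Spec.map_surjective g
  have hφf : φ.hom.Finite := by
    rw [← hφ] at hg
    exact (IsFinite.SpecMap_iff φ).mp hg
  algebraize [φ.hom]
  exact BcTorsor.finite_maximal_of_finite (A := A) hA

theorem glue (h84 : Stmt84.{u}) (h86 : Stmt86.{u}) {A : Type u} [CommRing A]
    (hA : {m : Ideal A | m.IsMaximal}.Finite)
    {G X : Over (Spec (CommRingCat.of A))} [GrpObj G] (hG : Red.IsSemisimple G)
    {idx M N : Type} [Finite idx] [AddCommGroup M] [AddCommGroup N] [Module.Finite ℤ M]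
    [Module.Free ℤ M]
    (R : RootPairing idx ℤ M N)
    (htype : ∀ s : Spec (CommRingCat.of A), Red.IsSplitOfType R (Red.geomFibre s G))
    (a : AlgGrp.Action G X) (ha : _root_.RedSub.IsTorsor a) :
    ∃ (S' : Scheme.{u}) (f : S' ⟶ Spec (CommRingCat.of A)), IsFinite f ∧ Etale f ∧ Surjective f ∧
      _root_.RedSub.HasSection (Red.bc f X) := by
  obtain ⟨S', f, hf1, hf2, hf3, ⟨D⟩⟩ := h84 hA G hG R htype
  obtain ⟨A', _, e, hA'⟩ := exists_semilocal hA f hf1
  let t : Spec (CommRingCat.of A') ⟶ S' := e.hom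
  let D' : Red.SplitRed (Red.bc t (Red.bc f G)) := Sga3B.SplitBc264.splitBc t D
  obtain ⟨S'', g, hg1, hg2, hg3, hs⟩ := h86 hA' D'
    (Sga3C.ActBase.baseAct t (Sga3C.ActBase.baseAct f a))
    (BcTorsor.isTorsor_bc t _ (BcTorsor.isTorsor_bc f a ha))
  have ht : IsIso t := inferInstance
  refine ⟨S'', g ≫ t ≫ f, inferInstance, inferInstance, inferInstance, ?_⟩
  exact BcTorsor.hasSection_bc_comp (t ≫ f) g
    (X := X) (by
      rw [BcTorsor.hasSection_bc_iff] at hs ⊢
      obtain ⟨σ, hσ⟩ := hs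
      let X1 := Red.bc f X
      refine ⟨σ ≫ pullback.lift (pullback.fst X1.hom t ≫ pullback.fst X.hom f)
        (pullback.snd X1.hom t) ?_, ?_⟩
      · rw [Category.assoc, pullback.condition, ← Category.assoc, ← Category.assoc]
        congr 1
        exact pullback.condition
      · have h2 : σ ≫ pullback.snd X1.hom t = g := hσ
        rw [Category.assoc]
        exact (congrArg (σ ≫ ·) (pullback.lift_snd _ _ _)).trans h2)

end Groth.Agent.RedSub.H667.Glue85
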