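import Groth.Agent.Sga3B.RootData136
import Mathlib.LinearAlgebra.Reflection

/-!
# Splittings with prescribed torus over a ring with trivial Picard group and constant root set

The ring need not be connected: instead the set of roots is assumed to be constant, and to
generate a subgroup of finite index of the character group (semisimple case).
-/

set_option autoImplicit false

universe u

open CategoryTheory MonoidalCategory CartesianMonoidalCategory MonObj GrpObj AlgebraicGeometry Limits
open scoped TensorProduct Polynomial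
open WithConv
open Groth.Agent.Books.DynBasic (mapPt mapPt_apply mapPt_injective)
open Groth.Agent.Books.AffBridge Groth.Agent.Sga3B.DSPts Groth.Agent.Sga3B.GaPts
open Groth.Agent.Sga3B.AffPts Groth.Agent.Sga3B.DSAff
open Groth.Agent.Sga3B.RootCoact Groth.Agent.Sga3B.RootOrb Groth.Agent.Sga3B.RootGr
open Groth.Agent.Sga3B.RootGa Groth.Agent.Sga3B.RootCert Groth.Agent.Sga3B.RootDens136
open Groth.Agent.Sga3B.RootRefl136 Groth.Agent.Sga3B.RootBC136 Groth.Agent.Sga3B.RootWt136
open Groth.Agent.Sga3B.RootExt136 Groth.Agent.Sga3B.RootDom136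
open Groth.Agent.Sga3B.RootTors878b Groth.Agent.Sga3B.RootFix878
open Groth.Agent.Sga3B.RootFinal136

namespace Groth.Agent.RedSub.H667.SplitConst

open Groth.Agent.Sga3B

section Unique

variable {M : Type} [AddCommGroup M] [Module.Free ℤ M]

/-- Uniqueness of coroots, for a finite set of roots generating a subgroup of finite index. -/
theorem coroot_unique_of_finite {Φ : Set M} (hfin : Φ.Finite)
    (hspan : ∃ d : ℕ, d ≠ 0 ∧ ∀ m : M, d • m ∈ AddSubgroup.closure Φ)
    {a : M} {f g : M →+ ℤ} (ha : a ∈ Φ) (hf : f a = 2) (hg : g a = 2)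
    (hf' : ∀ b ∈ Φ, sRefl f a b ∈ Φ) (hg' : ∀ b ∈ Φ, sRefl g a b ∈ Φ) : f = g := by
  have h := Module.Dual.eq_of_preReflection_mapsTo' (R := ℤ) (M := M) (x := a) hfin
    (Submodule.subset_span ha) (f := f.toIntLinearMap) (g := g.toIntLinearMap) hf
    (fun b hb => hf' b hb) hg (fun b hb => hg' b hb)
  obtain ⟨d, hd, hd'⟩ := hspan
  ext m
  have hm : d • m ∈ Submodule.span ℤ Φ := by
    have h1 := hd' m
    rw [← Submodule.span_int_eq_addSubgroupClosure] at h1
    exact h1
  have h2 : f (d • m) = g (d • m) := DFunLike.congr_fun h ⟨d • m, hm⟩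
  rw [map_nsmul, map_nsmul] at h2
  exact (smul_right_inj hd).1 h2

end Unique

section Weights

variable {R : Type u} [CommRing R] {A : Type u} [CommRing A] [HopfAlgebra R A]
variable {M : Type} [AddCommGroup M]
variable (p : A →ₐc[R] MonoidAlgebra R (Multiplicative M))

/-- The weights over a base with trivial Picard group, when the set of weights is constant. -/
theorem weights_const [Subsingleton (CommRing.Pic R)] [Algebra.FormallySmooth R A]
    (hfg : (aug R A).FG)
    (hone : ∀ (K : Type u) [Field K] [IsAlgClosed K] [Algebra R K] (m : M), m ≠ 0 →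
      ∀ x ∈ gr (conjCoact (bcP K p)) m, x ∉ aug K (K ⊗[R] A) ^ 2 →
      ∀ y ∈ gr (conjCoact (bcP K p)) m, ∃ r : K, y - r • x ∈ aug K (K ⊗[R] A) ^ 2)
    (Φ : Set M)
    (hΦ : ∀ (K : Type u) [Field K] [IsAlgClosed K] [Algebra R K] (m : M), m ≠ 0 →
      (IsWt (bcP K p) m ↔ m ∈ Φ)) :
      (∀ m ∉ Φ, m ≠ 0 → ∀ y ∈ gr (conjCoact p) m, y ∈ aug R A ^ 2) ∧
      (∀ a ∈ Φ, a ≠ 0 → ∃ x ∈ gr (conjCoact p) a,
        (∀ y ∈ gr (conjCoact p) a, ∃ r : R, y - r • x ∈ aug R A ^ 2) ∧
        ∀ r : R, r • x ∈ aug R A ^ 2 → r = 0) := by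
  classical
  obtain ⟨hfin, hproj⟩ := projective_quot hfg
  have hfW := fun m => finite_W p m
  have hpW := fun m => projective_W p m
  have hfpW : ∀ m, Module.FinitePresentation R (W p m) :=
    fun m => Module.finitePresentation_of_projective R _
  -- the rank
  have hrank : ∀ (m : M) (x : PrimeSpectrum R),
      Module.finrank (AlgebraicClosure x.asIdeal.ResidueField)
        ((AlgebraicClosure x.asIdeal.ResidueField) ⊗[R] (W p m)) =
        Module.rankAtStalk (R := R) (W p m) x := by
    intro m x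
    have h1 : Module.finrank (AlgebraicClosure x.asIdeal.ResidueField)
        ((AlgebraicClosure x.asIdeal.ResidueField) ⊗[R] (W p m)) =
        Module.rankAtStalk (R := R) (W p m)
        ((⊥ : PrimeSpectrum (AlgebraicClosure x.asIdeal.ResidueField)).comap
          (algebraMap R (AlgebraicClosure x.asIdeal.ResidueField))) := by
      rw [← Module.rankAtStalk_baseChange, Module.rankAtStalk_eq_finrank_of_free]
      rfl
    rw [h1]
    congr 1
    apply PrimeSpectrum.ext
    ext r
    change algebraMap R (AlgebraicClosure x.asIdeal.ResidueField) r = 0 ↔ _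
    rw [IsScalarTower.algebraMap_apply R x.asIdeal.ResidueField
      (AlgebraicClosure x.asIdeal.ResidueField), map_eq_zero_iff _
      (algebraMap x.asIdeal.ResidueField _).injective, Ideal.algebraMap_residueField_eq_zero]
  refine ⟨?_, ?_⟩
  · intro m hm hm0 y hy
    have hsub : Subsingleton (W p m) := by
      rw [← Module.rankAtStalk_eq_zero_iff_subsingleton (R := R)]
      funext x
      rw [← hrank]
      by_contra h
      have h1 : Nontrivial ((AlgebraicClosure x.asIdeal.ResidueField) ⊗[R] (W p m)) :=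
        Module.finrank_pos_iff.1 (Nat.pos_of_ne_zero h)
      rw [← isWt_iff p _ hm0, hΦ _ m hm0] at h1
      exact hm h1
    exact mem_sq_of_subsingleton p hy
  · intro a ha ha0
    obtain ⟨e⟩ := InvRank136.free_of_rank_one (R := R) (P := W p a) (fun x => by
      rw [← hrank]
      apply le_antisymm
      · exact finrank_le_one p _ a (hone _ a ha0)
      · have h1 : Nontrivial ((AlgebraicClosure x.asIdeal.ResidueField) ⊗[R] (W p a)) := by
          rw [← isWt_iff p _ ha0, hΦ _ a ha0]
          exact ha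
        exact Module.finrank_pos_iff.2 h1)
    exact exists_generator p e

end Weights

section Coroots

/-- **Coroots over a base with trivial Picard group, constant set of roots.** -/
theorem exists_coroot {R : Type u} [CommRing R] [Nontrivial R]
    [Subsingleton (CommRing.Pic R)] {A : Type u} [CommRing A] [HopfAlgebra R A] [Algebra.Smooth R A]
    {M : Type} [AddCommGroup M] [Module.Finite ℤ M] [Module.Free ℤ M]
    (p : A →ₐc[R] MonoidAlgebra R (Multiplicative M)) (hp : Function.Surjective p)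
    (hc : ∀ y, p y = 0 → y ∈ JP p (⊥ : AddSubmonoid M))
    (hcert : ∀ (K : Type u) [Field K] [IsAlgClosed K] [Algebra R K], RootCert.Cert (bcP K p))
    (hdom : ∀ (K : Type u) [Field K] [IsAlgClosed K] [Algebra R K], IsDomain (K ⊗[R] A))
    (Φ : Set M) (hfin : Φ.Finite) (hΦ0 : (0 : M) ∉ Φ)
    (hΦ : ∀ (K : Type u) [Field K] [IsAlgClosed K] [Algebra R K] (m : M), m ≠ 0 →
      (IsWt (bcP K p) m ↔ m ∈ Φ))
    (hspan : ∃ d : ℕ, d ≠ 0 ∧ ∀ m : M, d • m ∈ AddSubgroup.closure Φ)
    (a : M) (haΦ : a ∈ Φ) :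
    ∃ f : M →+ ℤ, f a = 2 ∧
      (∀ (K : Type u) [Field K] [IsAlgClosed K] [Algebra R K],
        ∃ n, NormRel (bcP K p) n (sRefl f a)) ∧
      ∃ n : WithConv (A →ₐ[R] R), ∀ (C : Type u) [CommRing C] [Algebra R C]
        (t : Multiplicative M →* Cˣ),
        mapPt (Algebra.ofId R C) n * torPt p t * (mapPt (Algebra.ofId R C) n)⁻¹ =
          torPt p (t.comp (AddMonoidHom.toMultiplicative (sRefl f a))) := by
  have ha : a ≠ 0 := fun h => hΦ0 (h ▸ haΦ)
  -- every point is in some `V`
  have key : ∀ x : PrimeSpectrum R, ∃ f : M →+ ℤ, f a = 2 ∧ (∀ b ∈ Φ, sRefl f a b ∈ Φ) ∧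
      x ∈ RootCor585.V p (sRefl f a) := by
    intro x
    let k := x.asIdeal.ResidueField
    let K := AlgebraicClosure k
    have : IsDomain (K ⊗[R] A) := hdom K
    have : Infinite K := IsAlgClosed.instInfinite
    have : IsDomain ((K ⊗[R] A) ⧸ JP (bcP K p) (lamQ a)) := isDomain_JP_lamQ (bcP K p) a
    obtain ⟨n, f, hf, hn⟩ := exists_refl (hcert K) ha ((hΦ K a ha).2 haΦ) inferInstance
    refine ⟨f, hf, ?_, RootCor585.mem_V_of_fix (RootCor585.fix_of_normRel hn) ?_⟩
    · intro b hb
      have hb0 : b ≠ 0 := fun h => hΦ0 (h ▸ hb)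
      have h2 : sRefl f a b ≠ 0 := by
        intro h0
        have h3 := sRefl_sRefl hf b
        rw [h0, map_zero] at h3
        exact hb0 h3.symm
      exact (hΦ K _ h2).1 (isWt_of_normRel hn ((hΦ K b hb0).2 hb))
    · ext r
      rw [RingHom.mem_ker, IsScalarTower.algebraMap_apply R k K, map_eq_zero_iff _
        (algebraMap k K).injective, Ideal.algebraMap_residueField_eq_zero]
  -- one `V` is everything
  obtain ⟨f, hf, hfV⟩ : ∃ f : M →+ ℤ, f a = 2 ∧ RootCor585.V p (sRefl f a) = Set.univ := by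
    obtain ⟨x⟩ : Nonempty (PrimeSpectrum R) := inferInstance
    obtain ⟨f, hf, hf', -⟩ := key x
    refine ⟨f, hf, Set.eq_univ_of_forall fun y => ?_⟩
    obtain ⟨f₁, hf₁, hf₁', hy⟩ := key y
    have : f = f₁ := coroot_unique_of_finite hfin hspan haΦ hf hf₁ hf' hf₁'
    rw [this]
    exact hy
  obtain ⟨g, hg⟩ : ∃ g : WithConv (A →ₐ[R] R), Fix p (RootCor585.tw p (sRefl f a)) g := by
    apply exists_conj hp hc
    intro m hm
    have hmV : (⟨m, hm.isPrime⟩ : PrimeSpectrum R) ∈ RootCor585.V p (sRefl f a) := by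
      rw [hfV]; trivial
    obtain ⟨y, hy⟩ := hmV
    let K := y.asIdeal.ResidueField
    refine ⟨K, inferInstance, inferInstance,
      mapPt (IsScalarTower.toAlgHom R (A ⧸ JT p (RootCor585.tw p (sRefl f a))) K) (xU p _),
      (fix_xU p _).map _, ?_⟩
    intro r hr
    have h1 : m = y.asIdeal.comap (algebraMap R (A ⧸ JT p (RootCor585.tw p (sRefl f a)))) :=
      (congrArg PrimeSpectrum.asIdeal hy).symm
    rw [IsScalarTower.algebraMap_apply R (A ⧸ JT p (RootCor585.tw p (sRefl f a))) K,
      Ideal.algebraMap_residueField_eq_zero]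
    rw [h1] at hr
    exact hr
  refine ⟨f, hf, fun K _ _ _ => RootCor585.normRel_of_fix (hg.map (Algebra.ofId R K)), g⁻¹, ?_⟩
  intro C _ _ t
  rw [map_inv, _root_.inv_inv]
  exact RootCor585.norm_of_fix (hg.map (Algebra.ofId R C)) t

end Coroots

section Main

variable {R : Type u} [CommRing R] {A : Type u} [CommRing A] [HopfAlgebra R A]
variable {M : Type} [AddCommGroup M] [Module.Finite ℤ M] [Module.Free ℤ M]
variable {G T : Over (Spec (CommRingCat.of R))} [GrpObj G] [GrpObj T]

/-- The splitting, from the certificates on all geometric fibres; the set of roots is constant. -/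
theorem exists_splitRed_of_cert_of_nontrivial [Nontrivial R]
    [Subsingleton (CommRing.Pic R)] [Algebra.Smooth R A]
    (hG : Red.IsReductive G) (i : T ⟶ G) (hT : Red.IsMaximalTorus i)
    (sp : Grp.mk T ≅ Grp.mk (Red.DS (Spec (CommRingCat.of R)) M)) (e : G ≅ SpecOver R A)
    [IsMonHom e.hom]
    (p : A →ₐc[R] MonoidAlgebra R (Multiplicative M))
    (hp : ∀ (X : Over (Spec (CommRingCat.of R))) (t : X ⟶ T),
        t ≫ i ≫ e.hom = affPt X ((chAlg (fnChar (t ≫ sp.hom.hom.hom))).comp (p : A →ₐ[R] _)))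
    (hps : Function.Surjective p) (hpc : ∀ y, p y = 0 → y ∈ JP p (⊥ : AddSubmonoid M))
    (hcert : ∀ (K : Type u) [Field K] [IsAlgClosed K] [Algebra R K], Cert (bcP K p))
    (hdom : ∀ (K : Type u) [Field K] [IsAlgClosed K] [Algebra R K], IsDomain (K ⊗[R] A))
    (Φ : Finset M) (hΦ0 : (0 : M) ∉ Φ)
    (hΦ3 : ∀ (K : Type u) [Field K] [IsAlgClosed K] [Algebra R K] (m : M), m ≠ 0 →
      (IsWt (bcP K p) m ↔ m ∈ Φ))
    (hspan : ∃ d : ℕ, d ≠ 0 ∧ ∀ m : M, d • m ∈ AddSubgroup.closure (Φ : Set M)) :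
    ∃ D : Red.SplitRed G, D.T = T ∧ HEq D.i i ∧ D.P.IsReduced := by
  classical
  have hfp : Algebra.FinitePresentation R A := Algebra.Smooth.finitePresentation
  obtain ⟨hΦ1, hΦ2⟩ := weights_const p fg_aug
    (fun K _ _ _ m hm => (hcert K).one m hm) (Φ : Set M) hΦ3
  -- a geometric point
  obtain ⟨x0⟩ : Nonempty (PrimeSpectrum R) := inferInstance
  let K := AlgebraicClosure x0.asIdeal.ResidueField
  have hinf : Infinite K := IsAlgClosed.instInfinite
  have hne : ∀ a ∈ Φ, a ≠ 0 := fun a ha h => hΦ0 (h ▸ ha)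
  -- proportional roots
  have hprop : ∀ a b : M, a ∈ Φ → b ∈ Φ → ∀ k l : ℤ, k ≠ 0 → l ≠ 0 → k • a = l • b →
      b = a ∨ b = -a := by
    intro a b ha hb k l hk hl h
    exact (hcert K).prop a b (hne a ha) (hne b hb) ((hΦ3 K a (hne a ha)).2 ha)
      ((hΦ3 K b (hne b hb)).2 hb) k l hk hl h
  -- coroots
  have hcor := fun a : {a // a ∈ Φ} => exists_coroot p hps hpc hcert hdom (Φ : Set M)
    Φ.finite_toSet hΦ0 hΦ3 hspan (a : M) a.2
  choose f hf1 hf2 n hn using hcor
  -- the Weyl group
  let W : Submonoid (AddMonoid.End M) :=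
    { carrier := {w : M →+ M | ∃ n, NormRel (bcP K p) n w}
      one_mem' := ⟨1, NormRel.one⟩
      mul_mem' := by
        rintro w w' ⟨n, hn⟩ ⟨n', hn'⟩
        exact ⟨n' * n, hn'.mul hn⟩ }
  have hWfin : Finite W := (finite_normRel (p := bcP K p) (bcP_surjective K p hps)).to_subtype
  have hrefl : ∀ a : {a // a ∈ Φ}, RootDatum879.refl (a : M) (f a) = sRefl (f a) a := by
    intro a
    ext m
    rfl
  refine SplitAssemble.exists_splitRed_reduced hG i hT sp e p hp Φ f hf1 ?_ hprop W ?_ ?_ ?_ ?_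
  · intro a b
    obtain ⟨m, hm⟩ := hf2 a K
    have h1 := isWt_of_normRel hm ((hΦ3 K b (hne b b.2)).2 b.2)
    have h2 : sRefl (f a) (a : M) (b : M) ≠ 0 := by
      intro h0
      have h3 := sRefl_sRefl (hf1 a) (b : M)
      rw [h0, map_zero] at h3
      exact hne b b.2 h3.symm
    exact (hΦ3 K _ h2).1 h1
  · intro a
    obtain ⟨m, hm⟩ := hf2 a K
    exact ⟨m, hm⟩
  · intro a ha
    have ha0 := hne a ha
    obtain ⟨x, hx, hx1, hx2⟩ := hΦ2 a ha ha0
    have hna : ∀ n : ℕ, n • a = 0 → n = 0 := by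
      intro n hn
      rw [← natCast_zsmul] at hn
      have := (smul_eq_zero.1 hn).resolve_right ha0
      exact_mod_cast this
    obtain ⟨φ, h1, -, -, h4, h5⟩ := exists_rootGroup p a hna x hx hx1 hx2 (by
      intro n hn y hy
      have hn0 : n • a ≠ 0 := fun h => by
        have := hna n h
        omega
      refine hΦ1 (n • a) ?_ hn0 y hy
      intro hmem
      rcases hprop a (n • a) ha hmem n 1 (by exact_mod_cast (by omega : n ≠ 0)) one_ne_zero
        (by rw [natCast_zsmul, one_smul]) with h | h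
      · have : ((n : ℤ) - 1) • a = 0 := by
          rw [sub_smul, natCast_zsmul, h, one_smul, sub_self]
        have := (smul_eq_zero.1 this).resolve_right ha0
        omega
      · have : ((n : ℤ) + 1) • a = 0 := by
          rw [add_smul, natCast_zsmul, h, one_smul, neg_add_cancel]
        have := (smul_eq_zero.1 this).resolve_right ha0
        omega)
    exact ⟨φ, h1, fun C _ _ s t => h4 C s t, fun C _ _ t s => h5 C t s⟩
  · intro a
    refine ⟨n a, fun C _ _ t => ?_⟩
    rw [hrefl]
    exact hn a C t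
  · intro s
    refine DimRed879.topologicalKrullDim_geomFibre G hG e Φ ?_ s
    intro L _ _ _
    refine ⟨bcP L p, (hcert L).surj, (hcert L).cent, (hcert L).one, ?_⟩
    intro a
    constructor
    · intro ha
      exact ⟨hne a ha, (hΦ3 L a (hne a ha)).2 ha⟩
    · rintro ⟨ha, hw⟩
      exact (hΦ3 L a ha).1 hw

/-- The splitting with prescribed maximal torus over the zero ring. -/
theorem exists_splitRed_of_subsingleton [Subsingleton R]
    (hG : Red.IsReductive G) (i : T ⟶ G) (hT : Red.IsMaximalTorus i)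
    (sp : Grp.mk T ≅ Grp.mk (Red.DS (Spec (CommRingCat.of R)) M)) (e : G ≅ SpecOver R A)
    [IsMonHom e.hom]
    (p : A →ₐc[R] MonoidAlgebra R (Multiplicative M))
    (hp : ∀ (X : Over (Spec (CommRingCat.of R))) (t : X ⟶ T),
        t ≫ i ≫ e.hom = affPt X ((chAlg (fnChar (t ≫ sp.hom.hom.hom))).comp (p : A →ₐ[R] _))) :
    ∃ D : Red.SplitRed G, D.T = T ∧ HEq D.i i ∧ D.P.IsReduced := by
  have hemp : IsEmpty (Spec (CommRingCat.of R)) :=
    inferInstanceAs (IsEmpty (PrimeSpectrum R))
  have hno : ∀ a : {a : M // a ∈ (∅ : Finset M)}, False := fun a => Finset.notMem_empty _ a.2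
  have hfin : Finite (⊥ : Submonoid (AddMonoid.End M)) := by
    change Finite ((⊥ : Submonoid (AddMonoid.End M)) : Set (AddMonoid.End M))
    rw [Submonoid.coe_bot]
    infer_instance
  refine SplitAssemble.exists_splitRed_reduced hG i hT sp e p hp ∅ (fun a => (hno a).elim)
    (fun a => (hno a).elim) (fun a => (hno a).elim) ?_ ⊥ (fun a => (hno a).elim) ?_
    (fun a => (hno a).elim) (fun s => (hemp.false s).elim)
  · intro a b ha
    exact absurd ha (Finset.notMem_empty _)
  · intro a ha
    exact absurd ha (Finset.notMem_empty _)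

/-- The splitting, from the certificates on all geometric fibres; the set of roots is constant. -/
theorem exists_splitRed_of_cert
    [Subsingleton (CommRing.Pic R)] [Algebra.Smooth R A]
    (hG : Red.IsReductive G) (i : T ⟶ G) (hT : Red.IsMaximalTorus i)
    (sp : Grp.mk T ≅ Grp.mk (Red.DS (Spec (CommRingCat.of R)) M)) (e : G ≅ SpecOver R A)
    [IsMonHom e.hom]
    (p : A →ₐc[R] MonoidAlgebra R (Multiplicative M))
    (hp : ∀ (X : Over (Spec (CommRingCat.of R))) (t : X ⟶ T),
        t ≫ i ≫ e.hom = affPt X ((chAlg (fnChar (t ≫ sp.hom.hom.hom))).comp (p : A →ₐ[R] _)))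
    (Φ : Finset M) (hΦ0 : (0 : M) ∉ Φ)
    (hΦ3 : ∀ (K : Type u) [Field K] [IsAlgClosed K] [Algebra R K] (m : M), m ≠ 0 →
      (IsWt (bcP K p) m ↔ m ∈ Φ))
    (hspan : ∃ d : ℕ, d ≠ 0 ∧ ∀ m : M, d • m ∈ AddSubgroup.closure (Φ : Set M)) :
    ∃ D : Red.SplitRed G, D.T = T ∧ HEq D.i i ∧ D.P.IsReduced := by
  rcases subsingleton_or_nontrivial R with hR | hR
  · exact exists_splitRed_of_subsingleton hG i hT sp e p hp
  · obtain ⟨h1, h2, h3, h4⟩ := RootData136.certs_of_reductive hG i hT sp e p hp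
    exact exists_splitRed_of_cert_of_nontrivial hG i hT sp e p hp h1 h2 h3 h4 Φ hΦ0 hΦ3 hspan

end Main

section Semilocal

theorem finite_maximalSpectrum {R : Type u} [CommRing R] (hR : {m : Ideal R | m.IsMaximal}.Finite) :
    Finite (MaximalSpectrum R) := by
  have := hR.to_subtype
  exact Finite.of_injective (β := {m : Ideal R | m.IsMaximal}) (fun m => ⟨m.asIdeal, m.isMaximal⟩)
    fun m m' h => MaximalSpectrum.ext (congrArg Subtype.val h)

theorem subsingleton_pic {R : Type u} [CommRing R] (hR : {m : Ideal R | m.IsMaximal}.Finite) :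
    Subsingleton (CommRing.Pic R) := by
  have := finite_maximalSpectrum hR
  infer_instance

end Semilocal

end Groth.Agent.RedSub.H667.SplitConst
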