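import Groth.Agent.Sga3C.ActBase
import Mathlib.RingTheory.QuasiFinite.Basic
import Groth.Prelude.Def_RedSub

/-!
# Base change of torsors and sections; semi-local rings and finite morphisms
-/

set_option autoImplicit false

universe u

open CategoryTheory Limits MonoidalCategory CartesianMonoidalCategory MonObj GrpObj AlgebraicGeometry

namespace Groth.Agent.RedSub.H667.BcTorsor

variable {S S' : Scheme.{u}} (t : S' ⟶ S)

/-- The base change of a torsor is a torsor. -/
theorem isTorsor_bc {G X : Over S} [GrpObj G] (a : AlgGrp.Action G X) (ha : _root_.RedSub.IsTorsor a) :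
    _root_.RedSub.IsTorsor (G := Red.bc t G) (X := Red.bc t X) (Sga3C.ActBase.baseAct t a) := by
  obtain ⟨h1, h2, h3, h4⟩ := ha
  refine ⟨?_, ?_, ?_, ?_⟩
  · exact MorphismProperty.of_isPullback (P := @Surjective) (IsPullback.of_hasPullback X.hom t) h1
  · exact MorphismProperty.of_isPullback (P := @Flat) (IsPullback.of_hasPullback X.hom t) h2
  · exact MorphismProperty.of_isPullback (P := @LocallyOfFinitePresentation)
      (IsPullback.of_hasPullback X.hom t) h3
  · have h : lift (Sga3C.ActBase.baseAct t a).act
          (snd ((Over.pullback t).obj G) ((Over.pullback t).obj X)) =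
        Functor.LaxMonoidal.μ (Over.pullback t) G X ≫ (Over.pullback t).map (lift a.act (snd G X)) ≫
          Functor.OplaxMonoidal.δ (Over.pullback t) X X := by
      rw [Functor.OplaxMonoidal.lift_δ, comp_lift]
      congr 1
      rw [Functor.Monoidal.μ_snd]
    change IsIso (lift (Sga3C.ActBase.baseAct t a).act
          (snd ((Over.pullback t).obj G) ((Over.pullback t).obj X)))
    rw [h]
    have h1 : IsIso (Functor.LaxMonoidal.μ (Over.pullback t) G X) := inferInstance
    have h2 : IsIso (Functor.OplaxMonoidal.δ (Over.pullback t) X X) := inferInstance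
    infer_instance

/-- A section of a base change is a morphism to the total space over the base. -/
theorem hasSection_bc_iff {X : Over S} :
    _root_.RedSub.HasSection (Red.bc t X) ↔ ∃ σ : S' ⟶ X.left, σ ≫ X.hom = t := by
  constructor
  · rintro ⟨s⟩
    refine ⟨s.left ≫ pullback.fst X.hom t, ?_⟩
    have h1 : s.left ≫ pullback.snd X.hom t = 𝟙 S' := Over.w s
    rw [Category.assoc, pullback.condition, ← Category.assoc, h1, Category.id_comp]
  · rintro ⟨σ, hσ⟩
    exact ⟨Over.homMk (pullback.lift σ (𝟙 S') (hσ.trans (Category.id_comp t).symm))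
      (pullback.lift_snd _ _ _)⟩

theorem hasSection_bc_comp {S'' : Scheme.{u}} (r : S'' ⟶ S') {X : Over S}
    (h : _root_.RedSub.HasSection (Red.bc r (Red.bc t X))) :
    _root_.RedSub.HasSection (Red.bc (r ≫ t) X) := by
  rw [hasSection_bc_iff] at h ⊢
  obtain ⟨σ, hσ⟩ := h
  refine ⟨σ ≫ pullback.fst X.hom t, ?_⟩
  have h1 : σ ≫ pullback.snd X.hom t = r := hσ
  rw [Category.assoc, pullback.condition, ← Category.assoc, h1]

/-- A finite algebra over a semi-local ring is semi-local. -/
theorem finite_maximal_of_finite {A B : Type u} [CommRing A] [CommRing B] [Algebra A B]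
    [Module.Finite A B] (hA : {m : Ideal A | m.IsMaximal}.Finite) :
    {m : Ideal B | m.IsMaximal}.Finite := by
  have hfib : ∀ p : Ideal A, p.IsMaximal → (p.primesOver B).Finite := fun p hp =>
    Algebra.QuasiFinite.finite_primesOver p
  refine ((hA.biUnion (t := fun p => p.primesOver B) (fun p hp => hfib p hp))).subset ?_
  intro m (hm : m.IsMaximal)
  have : m.IsPrime := hm.isPrime
  rw [Set.mem_iUnion₂]
  exact ⟨m.under A, Ideal.isMaximal_comap_of_isIntegral_of_isMaximal m, ⟨this, ⟨rfl⟩⟩⟩

end Groth.Agent.RedSub.H667.BcTorsor
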