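import Groth.Agent.Sga3B.RootData136
import Groth.Agent.Sga3B.ChartGood
import Groth.Agent.Sga3B.CertTr885
import Groth.Agent.Sga3B.AlgBc2
import Groth.Agent.Sga3B.RG.BrHc2
import Groth.Agent.RedSub.H667.SplitConst

/-!
# The weights of a maximal torus of a split group of given type, over an algebraically closed field

* `exists_splitRed_roots`: assembly of a splitting whose character lattice is the given one and whose
  roots are the given weights.
* `exists_equiv`: for `G` split of type `Q` over an algebraically closed field `K` and a split maximal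
  torus with character group `M`, there is `φ : M ≃+ M₀` carrying the nonzero weights to the roots.
-/

set_option autoImplicit false

universe u

open CategoryTheory MonoidalCategory CartesianMonoidalCategory MonObj GrpObj AlgebraicGeometry Limits
open scoped TensorProduct Polynomial
open WithConv
open Groth.Agent.Books.DynBasic (mapPt mapPt_apply mapPt_injective)
open Groth.Agent.Books.AffBridge Groth.Agent.Sga3B.DSPts Groth.Agent.Sga3B.GaPts
open Groth.Agent.Sga3B.AffPts Groth.Agent.Sga3B.DSAff Groth.Agent.Sga3B.RootHomDict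
open Groth.Agent.Sga3B.RootDatum879
open Groth.Agent.Sga3B.RootCoact Groth.Agent.Sga3B.RootOrb Groth.Agent.Sga3B.RootGr
open Groth.Agent.Sga3B.RootGa Groth.Agent.Sga3B.RootCert
open Groth.Agent.Sga3B.SplitAssemble

namespace Groth.Agent.RedSub.H667.FieldType

open Groth.Agent.Sga3B

section Assemble

variable {R : Type u} [CommRing R] {A : Type u} [CommRing A] [HopfAlgebra R A]
variable {M : Type} [AddCommGroup M]
variable {G T : Over (Spec (CommRingCat.of R))} [GrpObj G] [GrpObj T]

/-- **Assembly of a splitting**, with its character lattice and its set of roots. -/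
theorem exists_splitRed_roots (hG : Red.IsReductive G) (i : T ⟶ G) (hT : Red.IsMaximalTorus i)
    [Module.Finite ℤ M] [Module.Free ℤ M]
    (sp : Grp.mk T ≅ Grp.mk (Red.DS (Spec (CommRingCat.of R)) M)) (e : G ≅ SpecOver R A) [IsMonHom e.hom]
    (p : A →ₐc[R] MonoidAlgebra R (Multiplicative M))
    (hp : ∀ (X : Over (Spec (CommRingCat.of R))) (t : X ⟶ T),
        t ≫ i ≫ e.hom = affPt X ((chAlg (fnChar (t ≫ sp.hom.hom.hom))).comp (p : A →ₐ[R] _)))
    (Φ : Finset M) (f : {a // a ∈ Φ} → (M →+ ℤ))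
    (hf : ∀ a : {a // a ∈ Φ}, f a a = 2)
    (hs : ∀ a b : {a // a ∈ Φ}, (b : M) - f a b • (a : M) ∈ Φ)
    (hprop : ∀ a b : M, a ∈ Φ → b ∈ Φ → ∀ k l : ℤ, k ≠ 0 → l ≠ 0 → k • a = l • b → b = a ∨ b = -a)
    (W : Submonoid (AddMonoid.End M)) [Finite W]
    (hW : ∀ a : {a // a ∈ Φ}, (reflE (a : M) (f a)) ∈ W)
    (hroot : ∀ a ∈ Φ, ∃ φ : A →ₐ[R] R[X], Function.Surjective φ ∧
      (∀ (C : Type u) [CommRing C] [Algebra R C] (s t : C),
        WithConv.toConv ((Polynomial.aeval (R := R) (s + t)).comp φ) =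
          WithConv.toConv ((Polynomial.aeval (R := R) s).comp φ) *
            WithConv.toConv ((Polynomial.aeval (R := R) t).comp φ)) ∧
      (∀ (C : Type u) [CommRing C] [Algebra R C] (t : Multiplicative M →* Cˣ) (s : C),
        torPt p t * WithConv.toConv ((Polynomial.aeval (R := R) s).comp φ) * (torPt p t)⁻¹ =
          WithConv.toConv ((Polynomial.aeval (R := R) ((t (Multiplicative.ofAdd a) : C) * s)).comp φ)))
    (hrefl : ∀ a : {a // a ∈ Φ}, ∃ n : WithConv (A →ₐ[R] R),
      ∀ (C : Type u) [CommRing C] [Algebra R C] (t : Multiplicative M →* Cˣ),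
        mapPt (Algebra.ofId R C) n * torPt p t * (mapPt (Algebra.ofId R C) n)⁻¹ =
          torPt p (t.comp (AddMonoidHom.toMultiplicative (refl (a : M) (f a)))))
    (hdim : ∀ s : ↥(Spec (CommRingCat.of R)), topologicalKrullDim ↥(Red.geomFibre s G).left =
      ((Module.finrank ℤ M + Φ.card : ℕ) : WithBot ℕ∞)) :
    ∃ D : Red.SplitRed G, D.T = T ∧ HEq D.i i ∧ D.P.IsReduced ∧
      ∃ φ : M ≃+ D.M, ∀ m, m ∈ Φ ↔ φ m ∈ Set.range D.P.root := by
  obtain ⟨P, hP1, hP2, hP3⟩ := exists_rootPairing Φ f hf hs W hW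
  have hPr : ∀ a, (P.reflection a).toLinearMap.toAddMonoidHom = refl (a : M) (f a) := by
    intro a
    ext x
    change P.reflection a x = x - f a x • (a : M)
    rw [RootPairing.reflection_apply]
    congr 1
    have h1 : P.toLinearMap x (P.coroot a) = f a x := by
      rw [hP1]
      exact hP3 a x
    change P.toLinearMap x (P.coroot a) • P.root a = _
    rw [h1, hP2]
  choose φ hφ1 hφ2 hφ3 using hroot
  choose n hn using hrefl
  refine ⟨{ T := T
            i := i
            M := M
            idx := {a // a ∈ Φ}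
            P := P
            pairing_eq := hP1
            u := fun a => uOf e (φ a a.2)
            reductive := hG
            maximalTorus := hT
            split := sp
            rootHom := ?_
            refl := ?_
            dim_fibre := ?_ }, rfl, HEq.rfl, ?_, AddEquiv.refl M, ?_⟩
  · intro a
    rw [hP2]
    refine isRootHom_uOf i sp.hom.hom.hom e (p : A →ₐ[R] MonoidAlgebra R (Multiplicative M)) ?_
      (a : M) (φ a a.2) (hφ1 _ _) (fun B _ _ x y => hφ2 a a.2 B x y) ?_
    · intro X t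
      exact hp X t
    · intro B _ _ χ x
      have h := hφ3 a a.2 B χ.toHomUnits x
      rw [← chAlg_comp_eq] at h
      exact h
  · intro a
    refine ⟨cstPt e (n a), ?_⟩
    rw [hPr]
    exact refl_of_pt i sp e p hp (refl (a : M) (f a)) (n a) (hn a)
  · intro s
    rw [hdim s, Fintype.card_coe]
  · refine isReduced_of_prop P fun a b k l hk hl h => ?_
    rw [hP2, hP2] at h ⊢
    exact hprop _ _ a.2 b.2 k l hk hl h
  · intro m
    constructor
    · intro hm
      exact ⟨⟨m, hm⟩, hP2 ⟨m, hm⟩⟩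
    · rintro ⟨a, ha⟩
      have h1 : (a : M) = m := (hP2 a).symm.trans ha
      rw [← h1]
      exact a.2

end Assemble

section Field

variable {K : Type u} [Field K] [IsAlgClosed K] {A : Type u} [CommRing A] [HopfAlgebra K A]
variable {M : Type} [AddCommGroup M] [Module.Finite ℤ M] [Module.Free ℤ M]
variable {G T : Over (Spec (CommRingCat.of K))} [GrpObj G] [GrpObj T]

omit [IsAlgClosed K] [Module.Finite ℤ M] [Module.Free ℤ M] in
/-- The weights over the base itself. -/
theorem isWt_bcP_self (p : A →ₐc[K] MonoidAlgebra K (Multiplicative M)) (m : M) :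
    IsWt (RootBC136.bcP K p) m ↔ IsWt p m := by
  refine (CertTr885.isWt_iff (Bialgebra.TensorProduct.lid K A) (fun b => ?_) m).symm
  induction b using TensorProduct.induction_on with
  | zero => rw [map_zero, map_zero, map_zero]
  | add x y hx hy => rw [map_add, map_add, map_add, hx, hy]
  | tmul k a =>
    ext m
    rw [RootBC136.coeff_bcP]
    change (p (k • a)).coeff m = _
    rw [map_smul]
    rfl

omit [IsAlgClosed K] in
/-- A splitting with given torus and given character group, over a field; its roots are the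
nonzero weights. -/
theorem exists_splitRed (hG : Red.IsReductive G) (i : T ⟶ G) (hT : Red.IsMaximalTorus i)
    (sp : Grp.mk T ≅ Grp.mk (Red.DS (Spec (CommRingCat.of K)) M)) (e : G ≅ SpecOver K A)
    [IsMonHom e.hom] (p : A →ₐc[K] MonoidAlgebra K (Multiplicative M))
    (hp : ∀ (X : Over (Spec (CommRingCat.of K))) (t : X ⟶ T),
        t ≫ i ≫ e.hom = affPt X ((chAlg (fnChar (t ≫ sp.hom.hom.hom))).comp (p : A →ₐ[K] _))) :
    ∃ D : Red.SplitRed G, D.T = T ∧ HEq D.i i ∧ D.P.IsReduced ∧
      ∃ φ : M ≃+ D.M, ∀ m, m ≠ 0 → (IsWt p m ↔ φ m ∈ Set.range D.P.root) := by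
  have hsm : Algebra.Smooth K A := RootData136.smooth_of_reductive hG e
  obtain ⟨hps, hpc, hcert, hdom⟩ := RootData136.certs_of_reductive hG i hT sp e p hp
  obtain ⟨Φ, f, h1, h2, h3, ⟨W, hW, h4⟩, h5, h6, h7⟩ :=
    RootData136.exists_rootData p hps hpc hcert hdom
  obtain ⟨D, hD1, hD2, hD3, φ, hφ⟩ := exists_splitRed_roots hG i hT sp e p hp Φ f h1 h2 h3 W h4 h5 h6 (by
    intro s
    refine DimRed879.topologicalKrullDim_geomFibre G hG e Φ ?_ s
    intro L _ _ _
    exact ⟨RootBC136.bcP L p, (hcert L).surj, (hcert L).cent, (hcert L).one, h7 L⟩)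
  refine ⟨D, hD1, hD2, hD3, φ, fun m hm => ?_⟩
  rw [← hφ, h7 K m, isWt_bcP_self]
  exact ⟨fun h => ⟨hm, h⟩, fun h => h.2⟩

/-- Two splittings of a reductive group over an algebraically closed field have equivalent root
data. -/
theorem nonempty_equiv (hG : Red.IsReductive G) (D₁ D₂ : Red.SplitRed G) :
    Nonempty (RootPairing.Equiv D₁.P D₂.P) := by
  have hG' : Red.IsReductiveOver K G := AlgBc.isReductive_iff.1 hG
  have := hG'.1
  have := hG'.2.1
  have := hG'.2.2.1
  obtain ⟨g, f, -, hf⟩ := RG.BrHc2.exists_conj_iso G D₁.i D₂.i D₁.maximalTorus D₂.maximalTorus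
  refine SplitCmp588.nonempty_equiv' D₁ D₂ g fun X t => ⟨t ≫ f.hom, ?_⟩
  rw [Category.assoc, hf, RG.BrHc.comp_conjHom]

/-- The type of a splitting, as an isomorphism of character groups. -/
theorem exists_addEquiv_of_isSplitOfType (hG : Red.IsReductive G) (D : Red.SplitRed G)
    {idx M₀ N₀ : Type} [AddCommGroup M₀] [Module ℤ M₀] [AddCommGroup N₀] [Module ℤ N₀]
    (Q : RootPairing idx ℤ M₀ N₀) (hQ : Red.IsSplitOfType Q G) :
    ∃ φ : D.M ≃+ M₀, ∀ m, m ∈ Set.range D.P.root ↔ φ m ∈ Set.range Q.root := by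
  obtain ⟨D', ⟨E'⟩⟩ := hQ
  obtain ⟨E⟩ := nonempty_equiv hG D D'
  let F : RootPairing.Equiv D.P Q := E'.comp E
  let w : D.M ≃ₗ[ℤ] M₀ := RootPairing.Equiv.weightEquiv _ _ F
  refine ⟨w.toAddEquiv, fun m => ?_⟩
  change _ ↔ w m ∈ _
  have key : ∀ a, w (D.P.root a) = Q.root (F.indexEquiv a) := fun a =>
    RootPairing.Hom.root_weightMap_apply _ _ a F.toHom
  constructor
  · rintro ⟨a, rfl⟩
    exact ⟨F.indexEquiv a, (key a).symm⟩
  · rintro ⟨b, hb⟩
    refine ⟨F.indexEquiv.symm b, w.injective ?_⟩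
    rw [key, Equiv.apply_symm_apply]
    exact hb

/-- **The weights of a split maximal torus of a group split of type `Q`**, over an algebraically
closed field: the nonzero weights are, up to an isomorphism of the character groups, the roots
of `Q`. -/
theorem exists_equiv (hG : Red.IsReductive G) (i : T ⟶ G) (hT : Red.IsMaximalTorus i)
    (sp : Grp.mk T ≅ Grp.mk (Red.DS (Spec (CommRingCat.of K)) M)) (e : G ≅ SpecOver K A)
    [IsMonHom e.hom] (p : A →ₐc[K] MonoidAlgebra K (Multiplicative M))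
    (hp : ∀ (X : Over (Spec (CommRingCat.of K))) (t : X ⟶ T),
        t ≫ i ≫ e.hom = affPt X ((chAlg (fnChar (t ≫ sp.hom.hom.hom))).comp (p : A →ₐ[K] _)))
    {idx M₀ N₀ : Type} [AddCommGroup M₀] [Module ℤ M₀] [AddCommGroup N₀] [Module ℤ N₀]
    (Q : RootPairing idx ℤ M₀ N₀) (hQ : Red.IsSplitOfType Q G) :
    ∃ φ : M ≃+ M₀, ∀ m, m ≠ 0 → (IsWt p m ↔ φ m ∈ Set.range Q.root) := by
  obtain ⟨D, -, -, -, φ, hφ⟩ := exists_splitRed hG i hT sp e p hp
  obtain ⟨ψ, hψ⟩ := exists_addEquiv_of_isSplitOfType hG D Q hQ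
  refine ⟨φ.trans ψ, fun m hm => ?_⟩
  rw [hφ m hm, hψ]
  rfl

end Field

end Groth.Agent.RedSub.H667.FieldType
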